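import Groth.Agent.DSites.FPB.Basic
import Mathlib.CategoryTheory.Sites.LocallyBijective
import Mathlib.CategoryTheory.Limits.Preserves.Shapes.Products
import Mathlib.Algebra.Category.Grp.Colimits

/-!
# Sections of direct sums over quasi-compact objects
-/

universe u

set_option autoImplicit false
set_option backward.isDefEq.respectTransparency false
set_option backward.isDefEq.respectTransparency.types false

open CategoryTheory CategoryTheory.Limits Opposite

namespace Groth.Agent.DSites.FPB

open scoped Classical in
/-- In a direct sum of abelian groups every element is the sum of finitely many of its components. -/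
theorem exists_finset_sum {I : Type u} {G : I → AddCommGrpCat.{u}} {c : Cofan G} (hc : IsColimit c)
    (q : ∀ i, c.pt ⟶ G i) (hq : ∀ i, c.inj i ≫ q i = 𝟙 _) (hq' : ∀ i j, i ≠ j → c.inj i ≫ q j = 0) (z : c.pt) :
    ∃ S : Finset I, ∀ T, S ⊆ T → ∑ i ∈ T, c.inj i (q i z) = z := by
  classical
  let H : AddSubgroup c.pt :=
    { carrier := {z | ∃ S : Finset I, ∀ T, S ⊆ T → ∑ i ∈ T, c.inj i (q i z) = z}
      zero_mem' := ⟨∅, fun T _ => by simp⟩
      add_mem' := fun {a b} ⟨S, hS⟩ ⟨S', hS'⟩ => ⟨S ∪ S', fun T hT => by
        simp only [map_add, Finset.sum_add_distrib]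
        rw [hS T (Finset.union_subset_left hT), hS' T (Finset.union_subset_right hT)]⟩
      neg_mem' := fun {a} ⟨S, hS⟩ => ⟨S, fun T hT => by
        simp only [map_neg, Finset.sum_neg_distrib]; rw [hS T hT]⟩ }
  have hgen : ∀ i (t : G i), c.inj i t ∈ H := fun i t => ⟨{i}, fun T hT => by
    rw [Finset.sum_eq_single i (fun j _ hj => by
      rw [← ConcreteCategory.comp_apply (c.inj i), hq' i j (Ne.symm hj)]
      exact map_zero _) (fun h => absurd (hT (Finset.mem_singleton_self i)) h),
      ← ConcreteCategory.comp_apply (c.inj i), hq i]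
    rfl⟩
  have h : AddCommGrpCat.ofHom (QuotientAddGroup.mk' H) = 0 := Cofan.IsColimit.hom_ext hc _ _ fun i => by
    rw [comp_zero]
    ext t
    exact (QuotientAddGroup.eq_zero_iff _).2 (hgen i t)
  exact (QuotientAddGroup.eq_zero_iff z).1 (ConcreteCategory.congr_hom h z)

variable {C : Type u} [SmallCategory C] {J : GrothendieckTopology C} {I : Type u}
  {F : I → Sheaf J AddCommGrpCat.{u}}

open scoped Classical in
/-- The projection onto a summand. -/
noncomputable def proj {c : Cofan F} (hc : IsColimit c) (i : I) : c.pt ⟶ F i :=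
  Cofan.IsColimit.desc hc fun j => if h : j = i then eqToHom (by rw [h]) else 0

lemma inj_proj {c : Cofan F} (hc : IsColimit c) (i : I) : c.inj i ≫ proj hc i = 𝟙 _ := by
  classical
  rw [proj, Cofan.IsColimit.fac, dif_pos rfl, eqToHom_refl]

lemma inj_proj' {c : Cofan F} (hc : IsColimit c) {i j : I} (h : i ≠ j) : c.inj i ≫ proj hc j = 0 := by
  classical
  rw [proj, Cofan.IsColimit.fac, dif_neg h]

open scoped Classical in
/-- A section of a direct sum over a quasi-compact object is the sum of finitely many components. -/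
theorem exists_finset_sections {c : Cofan F} (hc : IsColimit c) {W : C} (hW : ToposFin.IsQCSite J W)
    (s : c.pt.obj.obj (op W)) :
    ∃ S : Finset I, ∀ T, S ⊆ T →
      ∑ i ∈ T, (c.inj i).hom.app (op W) ((proj hc i).hom.app (op W) s) = s := by
  classical
  let ι := sheafToPresheaf J AddCommGrpCat.{u}
  let c' := colimit.cocone (Discrete.functor fun i => ι.obj (F i))
  let φ : c'.pt ⟶ ι.obj c.pt := Sigma.desc fun i => ι.map (c.inj i)
  have hiso : IsIso ((presheafToSheaf J AddCommGrpCat.{u}).map φ) := by
    let e := IsColimit.coconePointUniqueUpToIso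
      (isColimitCofanMkObjOfIsColimit (presheafToSheaf J AddCommGrpCat.{u}) _ _
        (coproductIsCoproduct fun i => ι.obj (F i))) ((IsColimit.precomposeHomEquiv
        (Discrete.natIso
          (F := Discrete.functor fun i => (presheafToSheaf J AddCommGrpCat.{u}).obj (ι.obj (F i))) (G := Discrete.functor F)
          fun i => (asIso ((sheafificationAdjunction J AddCommGrpCat.{u}).counit.app (F i.as)))) c).symm hc)
    have he : (presheafToSheaf J AddCommGrpCat.{u}).map φ ≫
        (sheafificationAdjunction J AddCommGrpCat.{u}).counit.app c.pt = e.hom := by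
      refine (isColimitCofanMkObjOfIsColimit (presheafToSheaf J AddCommGrpCat.{u}) _ _
        (coproductIsCoproduct fun i => ι.obj (F i))).hom_ext fun ⟨i⟩ => ?_
      rw [IsColimit.comp_coconePointUniqueUpToIso_hom]
      show (presheafToSheaf J AddCommGrpCat.{u}).map (Sigma.ι (fun i => ι.obj (F i)) i) ≫ _ =
        (sheafificationAdjunction J AddCommGrpCat.{u}).counit.app (F i) ≫ c.inj i
      rw [← Category.assoc, ← Functor.map_comp, Sigma.ι_desc]
      exact (sheafificationAdjunction J AddCommGrpCat.{u}).counit.naturality (c.inj i)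
    have : IsIso ((presheafToSheaf J AddCommGrpCat.{u}).map φ ≫
        (sheafificationAdjunction J AddCommGrpCat.{u}).counit.app c.pt) := by rw [he]; infer_instance
    exact IsIso.of_isIso_comp_right _ ((sheafificationAdjunction J AddCommGrpCat.{u}).counit.app c.pt)
  have hWφ : J.W φ := (J.W_iff_isIso_map_of_adjunction (sheafificationAdjunction J AddCommGrpCat.{u}) φ).2 hiso
  have : Presheaf.IsLocallySurjective J φ :=
    ((J.W_iff_isLocallyBijective φ).1 hWφ).2
  obtain ⟨n, V, g, hg, hcov⟩ := hW _ (Presheaf.imageSieve_mem J φ s)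
  let q : ∀ (k : Fin n) (i : I), c'.pt.obj (op (V k)) ⟶ (F i).obj.obj (op (V k)) := fun k i =>
    (φ ≫ ι.map (proj hc i)).app (op (V k))
  have hloc : ∀ k, ∃ S : Finset I, ∀ T, S ⊆ T →
      c.pt.obj.map (g k).op (∑ i ∈ T, (c.inj i).hom.app (op W) ((proj hc i).hom.app (op W) s)) =
        c.pt.obj.map (g k).op s := fun k => by
    obtain ⟨z, hz⟩ := hg k
    have hq : ∀ i j, (Sigma.ι (fun i => ι.obj (F i)) i).app (op (V k)) ≫ q k j =
        (c.inj i ≫ proj hc j).hom.app (op (V k)) := fun i j => by
      rw [← NatTrans.comp_app]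
      exact congrArg (fun a : ι.obj (F i) ⟶ ι.obj (F j) => a.app (op (V k)))
        ((Category.assoc _ _ _).symm.trans ((congrArg (· ≫ ι.map (proj hc j)) (Sigma.ι_desc _ _)).trans
          (ι.map_comp _ _).symm))
    obtain ⟨S, hS⟩ := exists_finset_sum
      (isColimitCofanMkObjOfIsColimit ((evaluation _ _).obj (op (V k))) _ _
        (coproductIsCoproduct fun i => ι.obj (F i))) (q k)
      (fun i => (hq i i).trans (by rw [inj_proj]; rfl)) (fun i j h => (hq i j).trans (by rw [inj_proj' hc h]; rfl)) z
    refine ⟨S, fun T hT => ?_⟩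
    refine Eq.trans ?_ ((congrArg (φ.app (op (V k))) (hS T hT)).trans hz)
    rw [map_sum, map_sum]
    refine Finset.sum_congr rfl fun i _ => ?_
    have h₁ : φ.app (op (V k)) ((Sigma.ι (fun i => ι.obj (F i)) i).app (op (V k)) (q k i z)) =
        (c.inj i).hom.app (op (V k)) (q k i z) :=
      ConcreteCategory.congr_hom (congrArg (fun a : ι.obj (F i) ⟶ ι.obj c.pt => a.app (op (V k)))
        (Sigma.ι_desc (fun i => ι.map (c.inj i)) i)) _
    refine Eq.trans ?_ h₁.symm
    have h₂ : q k i z = (F i).obj.map (g k).op ((proj hc i).hom.app (op W) s) :=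
      (congrArg ((proj hc i).hom.app (op (V k))) hz).trans (NatTrans.naturality_apply _ (g k).op s)
    rw [h₂]
    exact (NatTrans.naturality_apply _ (g k).op _).symm
  choose S hS using hloc
  refine ⟨Finset.univ.biUnion S, fun T hT => ?_⟩
  refine (((Presheaf.isSheaf_iff_isSheaf_forget J c.pt.obj (CategoryTheory.forget Ab.{u})).1
    c.pt.property).isSheafFor _ hcov).isSeparatedFor.ext fun Z a ha => ?_
  rw [Sieve.mem_ofArrows_iff] at ha
  obtain ⟨k, p, rfl⟩ := ha
  have hk := hS k T ((Finset.subset_biUnion_of_mem S (Finset.mem_univ k)).trans hT)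
  show c.pt.obj.map _ _ = c.pt.obj.map _ _
  rw [op_comp, c.pt.obj.map_comp, ConcreteCategory.comp_apply, ConcreteCategory.comp_apply, hk]

/-- Sections over a quasi-compact object commute with direct sums of abelian sheaves. -/
theorem preservesColimit_sections (F : I → Sheaf J AddCommGrpCat.{u}) {W : C} (hW : ToposFin.IsQCSite J W) :
    PreservesColimit (Discrete.functor F) ((sheafSections J AddCommGrpCat.{u}).obj (op W)) := by
  classical
  let Γ := (sheafSections J AddCommGrpCat.{u}).obj (op W)
  let hc := coproductIsCoproduct F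
  let G := fun i => Γ.obj (F i)
  let q : ∀ i, ∐ G ⟶ G i := fun i => sigmaComparison Γ F ≫ Γ.map (proj hc i)
  have hq : ∀ i j, Sigma.ι G i ≫ q j = Γ.map (Sigma.ι F i ≫ proj hc j) := fun i j => by
    rw [ι_comp_sigmaComparison_assoc, Γ.map_comp]
  have : IsIso (sigmaComparison Γ F) := by
    refine (ConcreteCategory.isIso_iff_bijective _).2 ⟨(injective_iff_map_eq_zero _).2 fun z hz => ?_, fun s => ?_⟩
    · obtain ⟨S, hS⟩ := exists_finset_sum (coproductIsCoproduct G) q
        (fun i => (hq i i).trans ((congrArg Γ.map (inj_proj hc i)).trans (Γ.map_id _)))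
        (fun i j h => (hq i j).trans ((congrArg Γ.map (inj_proj' hc h)).trans rfl)) z
      rw [← hS S subset_rfl]
      refine Finset.sum_eq_zero fun i _ => ?_
      have : q i z = 0 := by rw [ConcreteCategory.comp_apply, hz, map_zero]
      exact (congrArg _ this).trans (map_zero _)
    · obtain ⟨S, hS⟩ := exists_finset_sections hc hW s
      refine ⟨∑ i ∈ S, Sigma.ι G i ((proj hc i).hom.app (op W) s), ?_⟩
      refine (map_sum _ _ _).trans (Eq.trans ?_ (hS S subset_rfl))
      exact Finset.sum_congr rfl fun i _ =>
        (ConcreteCategory.comp_apply _ _ _).symm.trans (ConcreteCategory.congr_hom (ι_comp_sigmaComparison Γ F i) _)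
  exact PreservesCoproduct.of_iso_comparison Γ F

/-- Shapes of discrete diagrams. -/
theorem preservesColimitsOfShape_sections (I : Type u) {W : C} (hW : ToposFin.IsQCSite J W) :
    PreservesColimitsOfShape (Discrete I) ((sheafSections J AddCommGrpCat.{u}).obj (op W)) :=
  ⟨fun {K} => have : PreservesColimit (Discrete.functor (K.obj ∘ Discrete.mk)) ((sheafSections J AddCommGrpCat.{u}).obj (op W)) :=
      preservesColimit_sections (K.obj ∘ Discrete.mk) hW
    preservesColimit_of_iso_diagram _ Discrete.natIsoFunctor.symm⟩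

variable (O : Sheaf J CommRingCat.{u})

/-- Sections of modules over a quasi-compact object commute with direct sums. -/
theorem preservesColimitsOfShape_toSheaf_sections (I : Type u) {W : C} (hW : ToposFin.IsQCSite J W) :
    PreservesColimitsOfShape (Discrete I)
      (SheafOfModules.toSheaf.{u} (ModSite.ringSh O) ⋙ (sheafSections J AddCommGrpCat.{u}).obj (op W)) :=
  have := preservesColimitsOfShape_sections (J := J) I hW
  have := ModTensor.preservesColimits_toSheaf O
  inferInstance

/-- Maps out of free modules on quasi-compact objects commute with direct sums. -/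
theorem preservesColimitsOfShape_hom_freeOn (I : Type u) {U : C} (hU : ToposFin.IsQCSite J U) :
    PreservesColimitsOfShape (Discrete I) (preadditiveCoyoneda.obj (op (fr O U))) := by
  have h₁ := preservesColimitsOfShape_toSheaf_sections O I hU
  have happ : ∀ {M : ModSite.Mod O} (a : fr O U ⟶ M),
      secOf a = ((ModTensor.fg O).map a).app (op U) (secOf (𝟙 (fr O U))) := fun a =>
    ((congrArg secOf (Category.id_comp a)).symm).trans (secOf_comp (𝟙 _) a)
  let e : SheafOfModules.toSheaf.{u} (ModSite.ringSh O) ⋙ (sheafSections J AddCommGrpCat.{u}).obj (op U) ≅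
      preadditiveCoyoneda.obj (op (fr O U)) :=
    (NatIso.ofComponents (fun M => AddEquiv.toAddCommGrpIso
      ({ secOf (U := U) (M := M) with
         map_add' := fun a b => by
           show secOf (a + b) = secOf a + secOf b
           rw [happ a, happ b, happ (a + b)]
           rfl } : (fr O U ⟶ M) ≃+ sc M U))
      (fun {M N} f => by ext a; exact secOf_comp a f)).symm
  exact preservesColimitsOfShape_of_natIso e

end Groth.Agent.DSites.FPB
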