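import Groth.Agent.ModTensor.FreeOn
import Groth.Agent.ModTensor.Locally
import Groth.Agent.ToposFinLib.Eps
import Groth.Prelude.Def_CohCx
import Mathlib.CategoryTheory.Sites.EpiMono

/-!
# Finite sums of the modules `j_{U!} O_U` for `U` in a set of quasi-compact objects
-/

universe u

set_option autoImplicit false
set_option backward.isDefEq.respectTransparency false
set_option backward.isDefEq.respectTransparency.types false

open CategoryTheory CategoryTheory.Limits Opposite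
open Groth.Agent.ModTensor

namespace Groth.Agent.DSites.FPB

variable {C : Type u} [SmallCategory C] {J : GrothendieckTopology C}

/-- A quasi-compact object of the topos is a quasi-compact object of the site. -/
theorem isQCSite_of_isQcObject (U : C)
    (hU : CohCx.IsQcObject ((presheafToSheaf J (Type u)).obj (yoneda.obj U))) : ToposFin.IsQCSite J U := by
  classical
  refine (ToposFinLib.isQC_eps_iff U).2 fun ι F π hπ => ?_
  obtain ⟨t, ht⟩ := hU ι F π fun V y =>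
    ⟨_, ToposFinLib.epi_desc_iff.1 hπ y, fun W g ⟨i, z, hz⟩ => ⟨i, z, hz⟩⟩
  refine ⟨t, ToposFinLib.epi_desc_iff.2 fun V y => ?_⟩
  obtain ⟨S, hS, h⟩ := ht V y
  refine J.superset_covering (fun W g hg => ?_) hS
  obtain ⟨i, z, hz⟩ := h W g hg
  exact ⟨i, z, hz⟩

variable {B : Set C}
  (hB₁ : ∀ X : C, ∃ (κ : Type u) (Y : κ → C) (g : ∀ k, Y k ⟶ X), Sieve.ofArrows Y g ∈ J X ∧ ∀ k, Y k ∈ B)

include hB₁ in
/-- A quasi-compact object has finite coverings by members of `B` inside a covering sieve. -/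
theorem exists_finite_cover {W : C} (hW : ToposFin.IsQCSite J W) {S : Sieve W} (hS : S ∈ J W) :
    ∃ (n : ℕ) (V : Fin n → C) (g : ∀ k, V k ⟶ W), (∀ k, V k ∈ B) ∧ (∀ k, S (g k)) ∧
      Sieve.ofArrows V g ∈ J W := by
  let T : Sieve W :=
    { arrows := fun Z g => ∃ (Y : C) (a : Z ⟶ Y) (b : Y ⟶ W), Y ∈ B ∧ S b ∧ a ≫ b = g
      downward_closed := fun {Z Z'} g ⟨Y, a, b, hY, hb, e⟩ c => ⟨Y, c ≫ a, b, hY, hb, by rw [Category.assoc, e]⟩ }
  have hT : T ∈ J W := J.transitive hS _ fun Z f hf => by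
    obtain ⟨κ, Y, g, hg, hY⟩ := hB₁ Z
    refine J.superset_covering (fun Z' h hh => ?_) hg
    rw [Sieve.mem_ofArrows_iff] at hh
    obtain ⟨k, a, rfl⟩ := hh
    exact ⟨Y k, a, g k ≫ f, hY k, S.downward_closed hf _, (Category.assoc _ _ _).symm⟩
  obtain ⟨n, V, g, hg, hcov⟩ := hW T hT
  choose Y a b hY hb e using hg
  refine ⟨n, Y, b, hY, hb, J.superset_covering (fun Z h hh => ?_) hcov⟩
  rw [Sieve.mem_ofArrows_iff] at hh ⊢
  obtain ⟨k, p, rfl⟩ := hh
  exact ⟨k, p ≫ a k, by rw [Category.assoc, e k]⟩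

variable {O : Sheaf J CommRingCat.{u}}

/-- Sections of a module. -/
abbrev sc (M : ModSite.Mod O) (U : C) : Type u := ((fg O).obj M).obj (op U)

/-- The free module on an object. -/
noncomputable abbrev fr (O : Sheaf J CommRingCat.{u}) (U : C) : ModSite.Mod O := ModSite.freeOn O U

/-- Maps out of a free module. -/
noncomputable def secOf {U : C} {M : ModSite.Mod O} : (fr O U ⟶ M) ≃ sc M U := (freeOnCorepr O U).homEquiv

lemma secOf_comp {U : C} {M N : ModSite.Mod O} (a : fr O U ⟶ M) (g : M ⟶ N) :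
    secOf (a ≫ g) = ((fg O).map g).app (op U) (secOf a) :=
  (freeOnCorepr O U).homEquiv_comp g a

/-- The map of free modules attached to a map. -/
noncomputable def ftr {U V : C} (f : V ⟶ U) : fr O V ⟶ fr O U :=
  secOf.symm (rs ((fg O).obj (fr O U)) f.op (secOf (𝟙 (fr O U))))

lemma secOf_ftr_comp {U V : C} (f : V ⟶ U) {M : ModSite.Mod O} (a : fr O U ⟶ M) :
    secOf (ftr f ≫ a) = rs ((fg O).obj M) f.op (secOf a) := by
  rw [secOf_comp, ftr, Equiv.apply_symm_apply, app_rs]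
  refine congrArg (rs ((fg O).obj M) f.op) ?_
  exact ((secOf_comp (𝟙 _) a).symm.trans (congrArg secOf (Category.id_comp a)))

lemma ftr_comp_assoc {U V W : C} (f : V ⟶ U) (g : W ⟶ V) {M : ModSite.Mod O} (a : fr O U ⟶ M) :
    ftr g ≫ ftr f ≫ a = ftr (g ≫ f) ≫ a := by
  apply secOf.injective
  rw [secOf_ftr_comp, secOf_ftr_comp, secOf_ftr_comp, op_comp, rs_comp]

/-- Maps out of a free module are determined on a covering. -/
lemma ext_cover {U : C} {κ : Type*} {V : κ → C} {g : ∀ k, V k ⟶ U} (hg : Sieve.ofArrows V g ∈ J U)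
    {M : ModSite.Mod O} {a b : fr O U ⟶ M} (h : ∀ k, ftr (g k) ≫ a = ftr (g k) ≫ b) : a = b := by
  apply secOf.injective
  refine eq_of_locally (J := J) (H := (fg O).obj M) M.isSheaf (U := U) hg fun Z c hc => ?_
  rw [Sieve.mem_ofArrows_iff] at hc
  obtain ⟨k, p, rfl⟩ := hc
  rw [op_comp, rs_comp, rs_comp]
  refine congrArg (rs ((fg O).obj M) p.op) ?_
  rw [← secOf_ftr_comp, ← secOf_ftr_comp, h k]

/-- Maps out of a free module glue. -/
lemma exists_glue {U : C} [HasPullbacks C] {κ : Type*} {V : κ → C} {g : ∀ k, V k ⟶ U}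
    (hg : Sieve.ofArrows V g ∈ J U) {M : ModSite.Mod O} (a : ∀ k, fr O (V k) ⟶ M)
    (h : ∀ k l, ftr (pullback.fst (g k) (g l)) ≫ a k = ftr (pullback.snd (g k) (g l)) ≫ a l) :
    ∃ b : fr O U ⟶ M, ∀ k, ftr (g k) ≫ b = a k := by
  have hsh := ((Presheaf.isSheaf_iff_isSheaf_forget J ((fg O).obj M).presheaf
    (CategoryTheory.forget Ab.{u})).1 M.isSheaf).isSheafFor _ hg
  rw [Sieve.ofArrows, ← Presieve.isSheafFor_iff_generate, Presieve.isSheafFor_arrows_iff] at hsh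
  obtain ⟨t, ht, -⟩ := hsh (fun k => (secOf (a k) : sc M (V k))) fun i j Z gi gj e => by
    have := congrArg (rs ((fg O).obj M) (pullback.lift gi gj e).op)
      ((secOf_ftr_comp (pullback.fst (g i) (g j)) (a i)).symm.trans
        ((congrArg secOf (h i j)).trans (secOf_ftr_comp (pullback.snd (g i) (g j)) (a j))))
    rw [← rs_comp, ← rs_comp, ← op_comp, ← op_comp, pullback.lift_fst, pullback.lift_snd] at this
    exact this
  refine ⟨secOf.symm t, fun k => secOf.injective ?_⟩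
  rw [secOf_ftr_comp, Equiv.apply_symm_apply]
  exact ht k

/-- A finite sum of free modules on members of `B`. -/
def IsFF (B : Set C) (P : ModSite.Mod O) : Prop :=
  ∃ (κ : Type) (_ : Finite κ) (U : κ → C) (ι : ∀ k, fr O (U k) ⟶ P),
    (∀ k, U k ∈ B) ∧ Nonempty (IsColimit (Cofan.mk P ι))

theorem isFF_sigma {κ : Type} [Finite κ] (U : κ → C) (h : ∀ k, U k ∈ B) :
    IsFF B (∐ fun k => fr O (U k)) :=
  ⟨κ, inferInstance, U, Sigma.ι _, h, ⟨coproductIsCoproduct _⟩⟩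

theorem IsFF.exists_iso {P : ModSite.Mod O} (hP : IsFF B P) :
    ∃ (n : ℕ) (U : Fin n → C), (∀ i, U i ∈ B) ∧ Nonempty (P ≅ ∐ fun i => fr O (U i)) := by
  obtain ⟨κ, _, U, ι, hU, ⟨hc⟩⟩ := hP
  obtain ⟨n, ⟨e⟩⟩ := Finite.exists_equiv_fin κ
  exact ⟨n, fun i => U (e.symm i), fun i => hU _, ⟨hc.coconePointUniqueUpToIso (coproductIsCoproduct _) ≪≫
    Sigma.whiskerEquiv e (fun k => eqToIso (by show fr O (U (e.symm (e k))) = _; rw [e.symm_apply_apply]))⟩⟩

theorem IsFF.biprod {P Q : ModSite.Mod O} (hP : IsFF B P) (hQ : IsFF B Q) : IsFF B (P ⊞ Q) := by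
  obtain ⟨κ, _, U, ι, hU, ⟨hc⟩⟩ := hP
  obtain ⟨κ', _, U', ι', hU', ⟨hc'⟩⟩ := hQ
  refine ⟨κ ⊕ κ', inferInstance, Sum.elim U U', fun | .inl k => ι k ≫ biprod.inl | .inr k => ι' k ≫ biprod.inr,
    Sum.rec hU hU', ⟨Cofan.IsColimit.mk _ (fun s => biprod.desc
      (Cofan.IsColimit.desc hc fun k => s.inj (.inl k)) (Cofan.IsColimit.desc hc' fun k => s.inj (.inr k)))
      ?_ ?_⟩⟩
  · rintro s (k | k)
    · show (ι k ≫ biprod.inl) ≫ _ = _
      rw [Category.assoc, biprod.inl_desc]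
      exact Cofan.IsColimit.fac hc _ k
    · show (ι' k ≫ biprod.inr) ≫ _ = _
      rw [Category.assoc, biprod.inr_desc]
      exact Cofan.IsColimit.fac hc' _ k
  · intro s m hm
    apply biprod.hom_ext'
    · rw [biprod.inl_desc]
      exact Cofan.IsColimit.hom_ext hc _ _ fun k =>
        ((Category.assoc _ _ _).symm.trans (hm (.inl k))).trans (Cofan.IsColimit.fac hc (fun k => s.inj (.inl k)) k).symm
    · rw [biprod.inr_desc]
      exact Cofan.IsColimit.hom_ext hc' _ _ fun k =>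
        ((Category.assoc _ _ _).symm.trans (hm (.inr k))).trans (Cofan.IsColimit.fac hc' (fun k => s.inj (.inr k)) k).symm

/-- A cokernel of a map from a finite sum of free modules. -/
def IsPres (B : Set C) {Q X : ModSite.Mod O} (q : Q ⟶ X) : Prop :=
  ∃ (R : ModSite.Mod O) (r : R ⟶ Q) (w : r ≫ q = 0),
    IsFF B R ∧ Nonempty (IsColimit (CokernelCofork.ofπ q w))

variable (hB₂ : ∀ U ∈ B, CohCx.IsQcObject ((presheafToSheaf J (Type u)).obj (yoneda.obj U)))

include hB₁ hB₂ in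
/-- Refinements of maps out of finite free sums along epimorphisms. -/
theorem exists_refine {P M N : ModSite.Mod O} (hP : IsFF B P) (π : M ⟶ N) [Epi π] (a : P ⟶ N) :
    ∃ (Q : ModSite.Mod O) (e : Q ⟶ P) (l : Q ⟶ M), IsFF B Q ∧ Epi e ∧ l ≫ π = e ≫ a ∧
      ∀ [HasPullbacks C], (∀ (U U₁ U₂ : C) (f₁ : U₁ ⟶ U) (f₂ : U₂ ⟶ U), U ∈ B → U₁ ∈ B → U₂ ∈ B →
        CohCx.IsQcObject ((presheafToSheaf J (Type u)).obj (yoneda.obj (pullback f₁ f₂)))) → IsPres B e := by
  classical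
  obtain ⟨κ, _, U, ι, hU, ⟨hc⟩⟩ := hP
  let π' : _ ⟶ _ := (SheafOfModules.toSheaf.{u} (ModSite.ringSh O)).map π
  have : Epi π' := by
    have := ModTensor.preservesColimits_toSheaf O
    infer_instance
  have hl : Sheaf.IsLocallySurjective π' := (Sheaf.isLocallySurjective_iff_epi' AddCommGrpCat.{u} π').2 this
  have hS : ∀ k, ∃ (n : ℕ) (V : Fin n → C) (g : ∀ j, V j ⟶ U k), (∀ j, V j ∈ B) ∧
      (∀ j, Presheaf.imageSieve (((SheafOfModules.toSheaf.{u} (ModSite.ringSh O)).map π).hom)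
        (secOf (ι k ≫ a) : sc N (U k)) (g j)) ∧ Sieve.ofArrows V g ∈ J (U k) := fun k =>
    exists_finite_cover hB₁ (isQCSite_of_isQcObject _ (hB₂ _ (hU k))) (hl.imageSieve_mem _)
  choose n V g hV hg hcov using hS
  choose t ht using hg
  let σ := Σ k, Fin (n k)
  let Q := ∐ fun p : σ => fr O (V p.1 p.2)
  let e : Q ⟶ P := Sigma.desc fun p => ftr (g p.1 p.2) ≫ ι p.1
  let l : Q ⟶ M := Sigma.desc fun p => secOf.symm (t p.1 p.2 : sc M (V p.1 p.2))
  have he : Epi e := ⟨fun {Z} x y hxy => Cofan.IsColimit.hom_ext hc _ _ fun k =>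
    ext_cover (hcov k) fun j => by
      have := congrArg (fun z => Sigma.ι (fun p : σ => fr O (V p.1 p.2)) ⟨k, j⟩ ≫ z) hxy
      simpa [e] using this⟩
  refine ⟨Q, e, l, isFF_sigma _ (fun p => hV p.1 p.2), he, ?_, fun {_} hB₃ => ?_⟩
  · refine Sigma.hom_ext _ _ fun p => ?_
    simp only [e, l, Sigma.ι_desc_assoc, Category.assoc]
    apply secOf.injective
    rw [secOf_comp, Equiv.apply_symm_apply, secOf_ftr_comp]
    exact ht p.1 p.2
  · have hW : ∀ (k : κ) (i j : Fin (n k)), ∃ (m : ℕ) (W : Fin m → C)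
        (w : ∀ r, W r ⟶ pullback (g k i) (g k j)), (∀ r, W r ∈ B) ∧ Sieve.ofArrows W w ∈ J _ := fun k i j => by
      obtain ⟨m, W, w, h₁, -, h₂⟩ := exists_finite_cover hB₁
        (isQCSite_of_isQcObject _ (hB₃ _ _ _ (g k i) (g k j) (hU k) (hV k i) (hV k j))) (J.top_mem _)
      exact ⟨m, W, w, h₁, h₂⟩
    choose m W w hWB hw using hW
    let τ := Σ k, Σ i : Fin (n k), Σ j : Fin (n k), Fin (m k i j)
    let R := ∐ fun p : τ => fr O (W p.1 p.2.1 p.2.2.1 p.2.2.2)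
    let r : R ⟶ Q := Sigma.desc fun p =>
      ftr (w p.1 p.2.1 p.2.2.1 p.2.2.2 ≫ pullback.fst _ _) ≫ Sigma.ι (fun p : σ => fr O (V p.1 p.2)) ⟨p.1, p.2.1⟩ -
        ftr (w p.1 p.2.1 p.2.2.1 p.2.2.2 ≫ pullback.snd _ _) ≫
          Sigma.ι (fun p : σ => fr O (V p.1 p.2)) ⟨p.1, p.2.2.1⟩
    have hwe : r ≫ e = 0 := Sigma.hom_ext _ _ fun p => by
      simp only [r, e, Sigma.ι_desc_assoc, Preadditive.sub_comp, Category.assoc, Sigma.ι_desc, comp_zero]
      rw [ftr_comp_assoc, ftr_comp_assoc, Category.assoc, Category.assoc, pullback.condition, sub_self]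
    refine ⟨R, r, hwe, isFF_sigma _ (fun p => hWB _ _ _ _), ⟨CokernelCofork.IsColimit.ofπ' e hwe fun {Z} z hz => ?_⟩⟩
    have hb : ∀ k, ∃ b : fr O (U k) ⟶ Z,
        ∀ i, ftr (g k i) ≫ b = Sigma.ι (fun p : σ => fr O (V p.1 p.2)) ⟨k, i⟩ ≫ z := fun k =>
      exists_glue (hcov k) _ fun i j => ext_cover (hw k i j) fun s => by
        have := congrArg (fun v => Sigma.ι (fun p : τ => fr O (W p.1 p.2.1 p.2.2.1 p.2.2.2)) ⟨k, i, j, s⟩ ≫ v) hz
        simp only [r, Sigma.ι_desc_assoc, Preadditive.sub_comp, Category.assoc, comp_zero, sub_eq_zero] at this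
        rw [ftr_comp_assoc, ftr_comp_assoc]
        exact this
    choose b hb using hb
    refine ⟨Cofan.IsColimit.desc hc b, Sigma.hom_ext _ _ fun p => ?_⟩
    simp only [e, Sigma.ι_desc_assoc, Category.assoc]
    exact (congrArg (ftr (g p.1 p.2) ≫ ·) (Cofan.IsColimit.fac hc b p.1)).trans (hb p.1 p.2)

end Groth.Agent.DSites.FPB
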