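import Groth.Agent.DSites.FPB.Basic
import Mathlib.CategoryTheory.Abelian.Refinements
import Mathlib.Algebra.Homology.ShortComplex.ShortExact

/-!
# The modules with finite presentations by free modules on quasi-compact objects
-/

universe u

set_option autoImplicit false
set_option backward.isDefEq.respectTransparency false
set_option backward.isDefEq.respectTransparency.types false

open CategoryTheory CategoryTheory.Limits Opposite
open Groth.Agent.ModTensor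

namespace Groth.Agent.DSites.FPB

variable {C : Type u} [SmallCategory C] {J : GrothendieckTopology C} {O : Sheaf J CommRingCat.{u}} {B : Set C}

lemma IsPres.epi {Q X : ModSite.Mod O} {q : Q ⟶ X} (h : IsPres B q) : Epi q := by
  obtain ⟨R, r, w, -, ⟨hc⟩⟩ := h
  exact Cofork.IsColimit.epi hc

lemma IsPres.desc {Q X : ModSite.Mod O} {q : Q ⟶ X} (h : IsPres B q) :
    ∃ (R : ModSite.Mod O) (r : R ⟶ Q), IsFF B R ∧ ∃ w : r ≫ q = 0, (ShortComplex.mk r q w).Exact ∧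
      ∀ {Z : ModSite.Mod O} (z : Q ⟶ Z), r ≫ z = 0 → ∃ z' : X ⟶ Z, q ≫ z' = z := by
  obtain ⟨R, r, w, hR, ⟨hc⟩⟩ := h
  exact ⟨R, r, hR, w, ShortComplex.exact_of_g_is_cokernel _ hc, fun z hz =>
    ⟨(CokernelCofork.IsColimit.desc' hc z hz).1, (CokernelCofork.IsColimit.desc' hc z hz).2⟩⟩

lemma IsPres.mk' {R Q X : ModSite.Mod O} (r : R ⟶ Q) (q : Q ⟶ X) [Epi q] (hR : IsFF B R) (w : r ≫ q = 0)
    (h : ∀ {Z : ModSite.Mod O} (z : Q ⟶ Z), r ≫ z = 0 → ∃ z' : X ⟶ Z, q ≫ z' = z) : IsPres B q :=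
  ⟨R, r, w, hR, ⟨CokernelCofork.IsColimit.ofπ' q w fun z hz => ⟨(h z hz).choose, (h z hz).choose_spec⟩⟩⟩

/-- Modules with a finite presentation by free modules on members of `B`. -/
def IsFP (B : Set C) (X : ModSite.Mod O) : Prop :=
  ∃ (P : ModSite.Mod O) (π : P ⟶ X), IsFF B P ∧ IsPres B π

theorem isFP_of_std {X : ModSite.Mod O}
    (h : ∃ (m' n' : ℕ) (V' : Fin m' → C) (U' : Fin n' → C)
      (ψ : (∐ fun j => ModSite.freeOn O (V' j)) ⟶ ∐ fun i => ModSite.freeOn O (U' i)),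
      (∀ j, V' j ∈ B) ∧ (∀ i, U' i ∈ B) ∧ Nonempty (X ≅ cokernel ψ)) : IsFP B X := by
  obtain ⟨m, n, V, U, ψ, hV, hU, ⟨e⟩⟩ := h
  refine ⟨_, cokernel.π ψ ≫ e.inv, isFF_sigma U hU,
    IsPres.mk' ψ _ (isFF_sigma V hV) (by rw [cokernel.condition_assoc, zero_comp]) fun {Z} z hz => ?_⟩
  exact ⟨e.hom ≫ cokernel.desc ψ z hz, by simp⟩

theorem IsFP.std {X : ModSite.Mod O} (h : IsFP B X) :
    ∃ (m' n' : ℕ) (V' : Fin m' → C) (U' : Fin n' → C)
      (ψ : (∐ fun j => ModSite.freeOn O (V' j)) ⟶ ∐ fun i => ModSite.freeOn O (U' i)),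
      (∀ j, V' j ∈ B) ∧ (∀ i, U' i ∈ B) ∧ Nonempty (X ≅ cokernel ψ) := by
  obtain ⟨P, π, hP, R, r, w, hR, ⟨hc⟩⟩ := h
  obtain ⟨n, U, hU, ⟨eP⟩⟩ := hP.exists_iso
  obtain ⟨m, V, hV, ⟨eR⟩⟩ := hR.exists_iso
  exact ⟨m, n, V, U, eR.inv ≫ r ≫ eP.hom, hV, hU, ⟨hc.coconePointUniqueUpToIso (cokernelIsCokernel r) ≪≫
    cokernel.mapIso r (eR.inv ≫ r ≫ eP.hom) eR eP (by simp)⟩⟩

variable (hB₁ : ∀ X : C, ∃ (κ : Type u) (Y : κ → C) (g : ∀ k, Y k ⟶ X), Sieve.ofArrows Y g ∈ J X ∧ ∀ k, Y k ∈ B)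
  (hB₂ : ∀ U ∈ B, CohCx.IsQcObject ((presheafToSheaf J (Type u)).obj (yoneda.obj U)))

include hB₁ hB₂

/-- Closure under cokernels. -/
theorem IsFP.cokernel {F G : ModSite.Mod O} (α : F ⟶ G) (hF : IsFP B F) (hG : IsFP B G) :
    IsFP B (cokernel α) := by
  obtain ⟨PF, pF, hPF, hpF⟩ := hF
  obtain ⟨PG, pG, hPG, hpG⟩ := hG
  have := hpF.epi
  have := hpG.epi
  obtain ⟨R, r, hR, w, -, hdesc⟩ := hpG.desc
  obtain ⟨Q, e, l, hQ, he, hel, -⟩ := exists_refine hB₁ hB₂ hPF pG (pF ≫ α)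
  refine ⟨PG, pG ≫ cokernel.π α, hPG, IsPres.mk' (biprod.desc r l) _ (hR.biprod hQ) ?_ fun {Z} z hz => ?_⟩
  · apply biprod.hom_ext'
    · rw [biprod.inl_desc_assoc, comp_zero, reassoc_of% w, zero_comp]
    · rw [biprod.inr_desc_assoc, comp_zero, reassoc_of% hel, cokernel.condition, comp_zero, comp_zero]
  · obtain ⟨z', hz'⟩ := hdesc z (by simpa using congrArg (fun t => biprod.inl ≫ t) hz)
    have h2 : l ≫ z = 0 := by simpa using congrArg (fun t => biprod.inr ≫ t) hz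
    have h3 : α ≫ z' = 0 := by
      rw [← cancel_epi pF, ← cancel_epi e, comp_zero, comp_zero, ← reassoc_of% hel, hz', h2]
    exact ⟨cokernel.desc α z' h3, by rw [Category.assoc, cokernel.π_desc, hz']⟩

/-- Every epimorphism from a finite free sum onto a finitely presented module is a presentation. -/
theorem IsFP.isPres [HasPullbacks C]
    (hB₃ : ∀ (U U₁ U₂ : C) (f₁ : U₁ ⟶ U) (f₂ : U₂ ⟶ U), U ∈ B → U₁ ∈ B → U₂ ∈ B →
      CohCx.IsQcObject ((presheafToSheaf J (Type u)).obj (yoneda.obj (pullback f₁ f₂))))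
    {Q X : ModSite.Mod O} (hX : IsFP B X) (hQ : IsFF B Q) (q : Q ⟶ X) [Epi q] : IsPres B q := by
  obtain ⟨P, π, hP, hπ⟩ := hX
  have := hπ.epi
  obtain ⟨P', e, u', hP', he, heu, hpe⟩ := exists_refine hB₁ hB₂ hP q π
  obtain ⟨R₁, r₁, hR₁, w₁, -, hd₁⟩ := (hpe hB₃).desc
  obtain ⟨R, r, hR, w, -, hd⟩ := hπ.desc
  obtain ⟨R', ε, z', hR', hε, hεz, -⟩ := exists_refine hB₁ hB₂ hR e r
  obtain ⟨Q', e', v, hQ', he', hev, -⟩ := exists_refine hB₁ hB₂ hQ (e ≫ π) q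
  refine IsPres.mk' (biprod.desc (biprod.desc (r₁ ≫ u') (z' ≫ u')) (e' - v ≫ u')) q
    ((hR₁.biprod hR').biprod hQ') ?_ fun {T} t ht => ?_
  · apply biprod.hom_ext'
    · rw [biprod.inl_desc_assoc, comp_zero]
      apply biprod.hom_ext'
      · rw [biprod.inl_desc_assoc, comp_zero, Category.assoc, heu, reassoc_of% w₁, zero_comp]
      · rw [biprod.inr_desc_assoc, comp_zero, Category.assoc, heu, reassoc_of% hεz, w, comp_zero]
    · rw [biprod.inr_desc_assoc, comp_zero, Preadditive.sub_comp, Category.assoc, heu, hev, sub_self]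
  · have k₁ : r₁ ≫ u' ≫ t = 0 := by simpa using congrArg (fun s => biprod.inl ≫ biprod.inl ≫ s) ht
    have k₂ : z' ≫ u' ≫ t = 0 := by simpa using congrArg (fun s => biprod.inr ≫ biprod.inl ≫ s) ht
    have k₃ : e' ≫ t = v ≫ u' ≫ t := by
      simpa [sub_eq_zero] using congrArg (fun s => biprod.inr ≫ s) ht
    obtain ⟨t₁, ht₁⟩ := hd₁ (u' ≫ t) k₁
    obtain ⟨t₂, ht₂⟩ := hd t₁ (by rw [← cancel_epi ε, ← reassoc_of% hεz, ht₁, k₂, comp_zero])
    refine ⟨t₂, ?_⟩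
    rw [← cancel_epi e', k₃, ← ht₁, ← ht₂, ← reassoc_of% hev]

/-- Closure under extensions. -/
theorem IsFP.extension [HasPullbacks C]
    (hB₃ : ∀ (U U₁ U₂ : C) (f₁ : U₁ ⟶ U) (f₂ : U₂ ⟶ U), U ∈ B → U₁ ∈ B → U₂ ∈ B →
      CohCx.IsQcObject ((presheafToSheaf J (Type u)).obj (yoneda.obj (pullback f₁ f₂))))
    {S : ShortComplex (ModSite.Mod O)} (hS : S.ShortExact) (h₁ : IsFP B S.X₁) (h₃ : IsFP B S.X₃) :
    IsFP B S.X₂ := by
  have := hS.mono_f
  have := hS.epi_g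
  obtain ⟨P₁, p₁, hP₁, hp₁⟩ := h₁
  obtain ⟨P₃, p₃, hP₃, hp₃⟩ := h₃
  have := hp₁.epi
  have := hp₃.epi
  obtain ⟨Q₃, e, l, hQ₃, he, hel, -⟩ := exists_refine hB₁ hB₂ hP₃ S.g p₃
  obtain ⟨R₃, r₃, hR₃, w₃, -, hd₃⟩ := (IsFP.isPres hB₁ hB₂ hB₃ ⟨P₃, p₃, hP₃, hp₃⟩ hQ₃ (e ≫ p₃)).desc
  obtain ⟨R₁, r₁, hR₁, w₁, -, hd₁⟩ := hp₁.desc
  let t : R₃ ⟶ S.X₁ := hS.exact.lift (r₃ ≫ l) (by rw [Category.assoc, hel, w₃])
  obtain ⟨R₃', ε, s, hR₃', hε, hεs, -⟩ := exists_refine hB₁ hB₂ hR₃ p₁ t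
  let ρ : R₁ ⊞ R₃' ⟶ P₁ ⊞ Q₃ := biprod.desc (r₁ ≫ biprod.inl) (ε ≫ r₃ ≫ biprod.inr - s ≫ biprod.inl)
  let q : P₁ ⊞ Q₃ ⟶ S.X₂ := biprod.desc (p₁ ≫ S.f) l
  have hlt : t ≫ S.f = r₃ ≫ l := hS.exact.lift_f _ _
  have hρ : ρ ≫ q = 0 := by
    apply biprod.hom_ext'
    · simp only [ρ, q, biprod.inl_desc_assoc, Category.assoc, biprod.inl_desc, comp_zero]
      rw [reassoc_of% w₁, zero_comp]
    · simp only [ρ, q, biprod.inr_desc_assoc, Preadditive.sub_comp, Category.assoc, biprod.inl_desc,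
        biprod.inr_desc, comp_zero]
      rw [reassoc_of% hεs, hlt, sub_self]
  obtain ⟨i, hi⟩ := hd₁ (biprod.inl ≫ cokernel.π ρ) (by
    have := congrArg (fun z => biprod.inl ≫ z) (cokernel.condition ρ)
    simp only [ρ, biprod.inl_desc_assoc, Category.assoc, comp_zero] at this
    exact this)
  let p : Limits.cokernel ρ ⟶ S.X₃ := cokernel.desc ρ (q ≫ S.g) (by rw [reassoc_of% hρ, zero_comp])
  let φ : Limits.cokernel ρ ⟶ S.X₂ := cokernel.desc ρ q hρ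
  have hiφ : i ≫ φ = S.f := by
    rw [← cancel_epi p₁, reassoc_of% hi, cokernel.π_desc, biprod.inl_desc]
  have hip : i ≫ p = 0 := by
    rw [← cancel_epi p₁, reassoc_of% hi, cokernel.π_desc, biprod.inl_desc_assoc, Category.assoc, S.zero,
      comp_zero]
  have hrel : ε ≫ r₃ ≫ biprod.inr ≫ cokernel.π ρ = s ≫ biprod.inl ≫ cokernel.π ρ := by
    have := congrArg (fun z => biprod.inr ≫ z) (cokernel.condition ρ)
    simp only [ρ, biprod.inr_desc_assoc, Preadditive.sub_comp, Category.assoc, comp_zero, sub_eq_zero] at this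
    exact this
  let T := ShortComplex.mk i p hip
  have hp : Epi p := by
    have : Epi ((biprod.inr ≫ cokernel.π ρ : Q₃ ⟶ _) ≫ p) := by
      rw [Category.assoc, cokernel.π_desc, biprod.inr_desc_assoc, hel]; infer_instance
    exact epi_of_epi (biprod.inr ≫ cokernel.π ρ : Q₃ ⟶ _) p
  have hmi : Mono i := by
    have : Mono (i ≫ φ) := by rw [hiφ]; infer_instance
    exact mono_of_mono i φ
  have haux : ∀ {Z : ModSite.Mod O} (z : Limits.cokernel ρ ⟶ Z), i ≫ z = 0 → ∃ z', p ≫ z' = z := fun {Z} z hz => by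
      have h₁ : p₁ ≫ i ≫ z = 0 := by rw [hz, comp_zero]
      obtain ⟨z', hz'⟩ := hd₃ (biprod.inr ≫ cokernel.π ρ ≫ z) (by
        rw [← cancel_epi ε, reassoc_of% hrel, ← reassoc_of% hi, h₁, comp_zero, comp_zero])
      refine ⟨z', ?_⟩
      rw [← cancel_epi (cokernel.π ρ), cokernel.π_desc_assoc]
      apply biprod.hom_ext'
      · rw [Category.assoc, biprod.inl_desc_assoc, Category.assoc, reassoc_of% S.zero, zero_comp, comp_zero,
          ← reassoc_of% hi, h₁]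
      · rw [Category.assoc, biprod.inr_desc_assoc, reassoc_of% hel]
        simpa using hz'
  have hT : T.ShortExact := { exact := T.exact_of_g_is_cokernel (CokernelCofork.IsColimit.ofπ' p hip fun z hz =>
    ⟨(haux z hz).choose, (haux z hz).choose_spec⟩) }
  let Φ : T ⟶ S :=
    { τ₁ := 𝟙 _, τ₂ := φ, τ₃ := 𝟙 _
      comm₁₂ := by show 𝟙 _ ≫ S.f = i ≫ φ; rw [hiφ, Category.id_comp]
      comm₂₃ := by
        show φ ≫ S.g = p ≫ 𝟙 _
        rw [Category.comp_id, ← cancel_epi (cokernel.π ρ), cokernel.π_desc_assoc, cokernel.π_desc] }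
  have : IsIso φ :=
    have : IsIso Φ.τ₁ := inferInstanceAs (IsIso (𝟙 _))
    have : IsIso Φ.τ₃ := inferInstanceAs (IsIso (𝟙 _))
    ShortComplex.isIso₂_of_shortExact_of_isIso₁₃ Φ hT hS
  exact ⟨_, cokernel.π ρ ≫ φ, hP₁.biprod hQ₃, IsPres.mk' ρ _ (hR₁.biprod hR₃')
    (by rw [cokernel.condition_assoc, zero_comp]) fun {Z} z hz => ⟨inv φ ≫ cokernel.desc ρ z hz, by simp⟩⟩

variable (hker : ∀ (m n : ℕ) (V : Fin m → C) (U : Fin n → C)
    (φ : (∐ fun j => ModSite.freeOn O (V j)) ⟶ ∐ fun i => ModSite.freeOn O (U i)),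
    (∀ j, V j ∈ B) → (∀ i, U i ∈ B) → IsFP B (kernel φ))

include hker in
/-- Kernels of maps out of finite free sums are finitely generated. -/
theorem exists_epi_kernel {P G : ModSite.Mod O} (hP : IsFF B P) (hG : IsFP B G) (φ : P ⟶ G) :
    ∃ (K : ModSite.Mod O) (k : K ⟶ kernel φ), IsFF B K ∧ Epi k := by
  obtain ⟨PG, pG, hPG, hpG⟩ := hG
  have := hpG.epi
  obtain ⟨R, r, hR, w, hex, -⟩ := hpG.desc
  obtain ⟨Q, e, l, hQ, he, hel, -⟩ := exists_refine hB₁ hB₂ hP pG φ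
  let ψ : R ⊞ Q ⟶ PG := biprod.desc r l
  obtain ⟨m, V, hV, ⟨eV⟩⟩ := (hR.biprod hQ).exists_iso
  obtain ⟨n, U, hU, ⟨eU⟩⟩ := hPG.exists_iso
  obtain ⟨K, π, hK, hπ⟩ := hker m n V U (eV.inv ≫ ψ ≫ eU.hom) hV hU
  have := hπ.epi
  let j := kernel.mapIso ψ (eV.inv ≫ ψ ≫ eU.hom) eV eU (by simp)
  have hψ : ∀ {A : ModSite.Mod O} (x : A ⟶ R ⊞ Q), x ≫ ψ = x ≫ biprod.fst ≫ r + x ≫ biprod.snd ≫ l :=
    fun x => by simp [ψ, biprod.desc_eq]
  let k₀ : kernel ψ ⟶ kernel φ := kernel.lift φ (kernel.ι ψ ≫ biprod.snd ≫ e) (by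
    have := congrArg (fun z => z ≫ pG) ((hψ (kernel.ι ψ)).symm.trans (kernel.condition ψ))
    simp only [Preadditive.add_comp, Category.assoc, w, hel, comp_zero, zero_add, zero_comp] at this
    simpa [Category.assoc] using this)
  have : Epi k₀ := by
    rw [epi_iff_surjective_up_to_refinements]
    intro A y
    obtain ⟨A', a, ha, x, hx⟩ := surjective_up_to_refinements_of_epi e (y ≫ kernel.ι φ)
    obtain ⟨A'', b, hb, z, hz⟩ := hex.exact_up_to_refinements (x ≫ l) (by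
      show (x ≫ l) ≫ pG = 0
      rw [Category.assoc, hel, ← reassoc_of% hx, kernel.condition, comp_zero, comp_zero])
    refine ⟨A'', b ≫ a, inferInstance, kernel.lift ψ (biprod.lift (-z) (b ≫ x)) (by
      have hz' : b ≫ x ≫ l = z ≫ r := hz
      rw [hψ, biprod.lift_fst_assoc, biprod.lift_snd_assoc, Preadditive.neg_comp, Category.assoc, hz',
        neg_add_cancel]), ?_⟩
    rw [← cancel_mono (kernel.ι φ)]
    simp [k₀, hx]
  exact ⟨K, π ≫ j.inv ≫ k₀, hK, inferInstance⟩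

include hker in
/-- Closure under kernels. -/
theorem IsFP.kernel {F G : ModSite.Mod O} (α : F ⟶ G) (hF : IsFP B F) (hG : IsFP B G) :
    IsFP B (kernel α) := by
  obtain ⟨PF, pF, hPF, hpF⟩ := id hF
  have := hpF.epi
  obtain ⟨K₀, k₀, hK₀, hk₀⟩ := exists_epi_kernel hB₁ hB₂ hker hPF hG (pF ≫ α)
  let j : Limits.kernel (pF ≫ α) ⟶ Limits.kernel α :=
    kernel.lift α (kernel.ι (pF ≫ α) ≫ pF) (by rw [Category.assoc, kernel.condition])
  have : Epi j := by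
    rw [epi_iff_surjective_up_to_refinements]
    intro A y
    obtain ⟨A', a, ha, x, hx⟩ := surjective_up_to_refinements_of_epi pF (y ≫ kernel.ι α)
    refine ⟨A', a, ha, kernel.lift _ x (by rw [← reassoc_of% hx, kernel.condition, comp_zero, comp_zero]), ?_⟩
    rw [← cancel_mono (kernel.ι α)]
    simp [j, hx]
  let q := k₀ ≫ j
  obtain ⟨K₁, k₁, hK₁, hk₁⟩ := exists_epi_kernel hB₁ hB₂ hker hK₀ hF (q ≫ kernel.ι α)
  refine ⟨K₀, q, hK₀, IsPres.mk' (k₁ ≫ kernel.ι (q ≫ kernel.ι α)) q hK₁ (by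
    rw [← cancel_mono (kernel.ι α), Category.assoc, Category.assoc, kernel.condition, comp_zero, zero_comp])
    fun {Z} z hz => ?_⟩
  rw [Category.assoc, ← comp_zero (f := k₁), cancel_epi] at hz
  let l : Limits.kernel q ⟶ Limits.kernel (q ≫ kernel.ι α) :=
    kernel.lift _ (kernel.ι q) (by rw [kernel.condition_assoc, zero_comp])
  have e : l ≫ kernel.ι (q ≫ kernel.ι α) = kernel.ι q := kernel.lift_ι _ _ _
  have h : kernel.ι q ≫ z = 0 := by
    refine (congrArg (· ≫ z) e).symm.trans ?_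
    rw [Category.assoc, hz, comp_zero]
  let hc := Abelian.epiIsCokernelOfKernel (KernelFork.ofι _ (kernel.condition q)) (kernelIsKernel q)
  exact ⟨(CokernelCofork.IsColimit.desc' hc z h).1, (CokernelCofork.IsColimit.desc' hc z h).2⟩

end Groth.Agent.DSites.FPB
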