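import Groth.Agent.DSites.FPB.Closure
import Groth.Agent.DSites.FPHom.Colim
import Mathlib.CategoryTheory.Filtered.Basic

/-!
# Every module is a filtered colimit of finitely presented ones
-/

universe u

set_option autoImplicit false
set_option backward.isDefEq.respectTransparency false
set_option backward.isDefEq.respectTransparency.types false
set_option linter.unusedSectionVars false
set_option linter.unusedVariables false

open CategoryTheory CategoryTheory.Limits Opposite
open Groth.Agent.ModTensor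

namespace Groth.Agent.DSites.FPB

variable {C : Type u} [SmallCategory C] {J : GrothendieckTopology C} {O : Sheaf J CommRingCat.{u}} {B : Set C}

theorem isFP_of_isFF {P : ModSite.Mod O} (h : IsFF B P) : IsFP B P :=
  ⟨P, 𝟙 P, h, IsPres.mk' (0 : (∐ fun k : Fin 0 => fr O (Fin.elim0 k : C)) ⟶ P) _
    (isFF_sigma _ fun k => k.elim0) zero_comp fun z _ => ⟨z, Category.id_comp z⟩⟩

theorem isFP_fr {U : C} (hU : U ∈ B) : IsFP B (fr O U) :=
  isFP_of_isFF ⟨PUnit, inferInstance, fun _ => U, fun _ => 𝟙 _, fun _ => hU,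
    ⟨Cofan.IsColimit.mk _ (fun s => s.inj PUnit.unit) (fun s _ => Category.id_comp _)
      fun s m hm => (Category.id_comp m).symm.trans (hm PUnit.unit)⟩⟩

theorem IsFP.biprod {X Y : ModSite.Mod O} (hX : IsFP B X) (hY : IsFP B Y) : IsFP B (X ⊞ Y) := by
  obtain ⟨P, p, hP, hp⟩ := hX
  obtain ⟨Q, q, hQ, hq⟩ := hY
  have := hp.epi
  have := hq.epi
  obtain ⟨R, r, hR, w, -, hd⟩ := hp.desc
  obtain ⟨S, s, hS, w', -, hd'⟩ := hq.desc
  have hepi : Epi (biprod.map p q) := ⟨fun a b hab => biprod.hom_ext' _ _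
    ((cancel_epi p).1 (by simpa using congrArg (fun t => biprod.inl ≫ t) hab))
    ((cancel_epi q).1 (by simpa using congrArg (fun t => biprod.inr ≫ t) hab))⟩
  refine ⟨_, biprod.map p q, hP.biprod hQ, IsPres.mk' (biprod.map r s) _ (hR.biprod hS) ?_ fun {Z} z hz => ?_⟩
  · apply biprod.hom_ext' <;> simp [reassoc_of% w, reassoc_of% w']
  · obtain ⟨a, ha⟩ := hd (biprod.inl ≫ z) (by simpa using congrArg (fun t => biprod.inl ≫ t) hz)
    obtain ⟨b, hb⟩ := hd' (biprod.inr ≫ z) (by simpa using congrArg (fun t => biprod.inr ≫ t) hz)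
    exact ⟨biprod.desc a b, biprod.hom_ext' _ _ (by simp [ha]) (by simp [hb])⟩

variable (B) (F : ModSite.Mod O)

/-- An index: a standard finitely presented module over `F`. -/
structure Idx : Type u where
  /-- relations -/
  m : ℕ
  /-- generators -/
  n : ℕ
  /-- objects of relations -/
  V : Fin m → C
  /-- objects of generators -/
  U : Fin n → C
  /-- the presentation -/
  ψ : (∐ fun j => ModSite.freeOn O (V j)) ⟶ ∐ fun i => ModSite.freeOn O (U i)
  hV : ∀ j, V j ∈ B
  hU : ∀ i, U i ∈ B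
  /-- the structure map -/
  a : cokernel ψ ⟶ F

/-- The index as an object over `F`. -/
noncomputable abbrev Idx.over (i : Idx B F) : Over F := Over.mk i.a

/-- The category of indices. -/
abbrev Lam : Type u := InducedCategory (Over F) (Idx.over B F)

variable {B F}

theorem exists_idx {X : ModSite.Mod O} (hX : IsFP B X) (a : X ⟶ F) :
    ∃ i : Lam B F, Nonempty (Over.mk a ≅ Idx.over B F i) := by
  obtain ⟨m, n, V, U, ψ, hV, hU, ⟨e⟩⟩ := hX.std
  exact ⟨(⟨m, n, V, U, ψ, hV, hU, e.inv ≫ a⟩ : Idx B F), ⟨Over.isoMk e (by simp)⟩⟩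

theorem isFP_idx (i : Lam B F) : IsFP B (Idx.over B F i).left :=
  isFP_of_std ⟨_, _, _, _, _, i.hV, i.hU, ⟨Iso.refl _⟩⟩

variable (B F) in
/-- The diagram. -/
noncomputable def lamDiag : Lam B F ⥤ ModSite.Mod O := inducedFunctor _ ⋙ Over.forget F

variable (B F) in
/-- The cocone. -/
noncomputable def lamCocone : Cocone (lamDiag B F) := (Over.forgetCocone F).whisker (inducedFunctor _)

variable (hB₁ : ∀ X : C, ∃ (κ : Type u) (Y : κ → C) (g : ∀ k, Y k ⟶ X), Sieve.ofArrows Y g ∈ J X ∧ ∀ k, Y k ∈ B)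
  (hB₂ : ∀ U ∈ B, CohCx.IsQcObject ((presheafToSheaf J (Type u)).obj (yoneda.obj U)))

include hB₁ hB₂ in
theorem isFiltered_lam : IsFiltered (Lam B F) := by
  have : Nonempty (Lam B F) := ⟨(exists_idx (isFP_of_isFF (isFF_sigma (O := O) (κ := Fin 0) Fin.elim0 fun k => k.elim0))
    0).choose⟩
  have : IsFilteredOrEmpty (Lam B F) :=
    { cocone_objs := fun i j => by
        obtain ⟨k, ⟨e⟩⟩ := exists_idx ((isFP_idx i).biprod (isFP_idx j))
          (biprod.desc (Idx.over B F i).hom (Idx.over B F j).hom)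
        exact ⟨k, InducedCategory.homMk ((Over.homMk biprod.inl (biprod.inl_desc _ _) : _ ⟶ _) ≫ e.hom),
          InducedCategory.homMk ((Over.homMk biprod.inr (biprod.inr_desc _ _) : _ ⟶ _) ≫ e.hom), trivial⟩
      cocone_maps := fun i j f g => by
        obtain ⟨k, ⟨e⟩⟩ := exists_idx ((isFP_idx i).cokernel hB₁ hB₂ (f.hom.left - g.hom.left) (isFP_idx j))
          (cokernel.desc _ (Idx.over B F j).hom (by
            rw [Preadditive.sub_comp]
            exact sub_eq_zero.2 ((Over.w f.hom).trans (Over.w g.hom).symm)))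
        refine ⟨k, InducedCategory.homMk ((Over.homMk (cokernel.π _) (cokernel.π_desc _ _ _) : _ ⟶ _) ≫ e.hom), ?_⟩
        apply InducedCategory.hom_ext
        apply Over.OverMorphism.ext
        have := cokernel.condition (f.hom.left - g.hom.left)
        rw [Preadditive.sub_comp, sub_eq_zero] at this
        exact (Category.assoc _ _ _).symm.trans ((congrArg (· ≫ e.hom.left) this).trans (Category.assoc _ _ _)) }
  exact ⟨⟩

include hB₁ hB₂ in
theorem nonempty_isColimit_lam : Nonempty (IsColimit (lamCocone B F)) := by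
  have := isFiltered_lam (F := F) hB₁ hB₂
  let c := colimit.cocone (lamDiag B F)
  let hc : IsColimit c := colimit.isColimit _
  let κ : c.pt ⟶ F := colimit.desc (lamDiag B F) (lamCocone B F)
  have hκ : ∀ i, c.ι.app i ≫ κ = (Idx.over B F i).hom := fun i => colimit.ι_desc (lamCocone B F) i
  have hepi : Epi κ := ⟨fun z w hzw => by
    refine isSeparating_freeOn B hB₁ z w fun G hG x => ?_
    obtain ⟨⟨U, hU⟩⟩ := hG
    obtain ⟨i, ⟨e⟩⟩ := exists_idx (isFP_fr hU) x
    have hx : e.hom.left ≫ c.ι.app i ≫ κ = x := by rw [hκ]; exact Over.w e.hom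
    rw [← hx, Category.assoc, Category.assoc, Category.assoc, Category.assoc, hzw]⟩
  have hmono : Mono κ := Preadditive.mono_of_cancel_zero _ fun {T} t ht => by
    refine isSeparating_freeOn B hB₁ t 0 fun G hG x => ?_
    obtain ⟨⟨U, hU⟩⟩ := hG
    rw [comp_zero]
    have hy : (x ≫ t) ≫ κ = 0 := by rw [Category.assoc, ht, comp_zero]
    apply secOf.injective
    obtain ⟨R, hR, hR'⟩ := FPHom.locally_rep hc (secOf (x ≫ t) : sc c.pt U)
    let Q : Sieve U :=
      { arrows := fun V g => rs ((fg O).obj c.pt) g.op (secOf (x ≫ t)) = rs ((fg O).obj c.pt) g.op (secOf 0)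
        downward_closed := fun {V V'} g hg k => by rw [op_comp, rs_comp, rs_comp, hg] }
    refine eq_of_locally (J := J) (H := (fg O).obj c.pt) c.pt.isSheaf (U := U) (S := Q) ?_ fun V g hg => hg
    refine J.transitive hR _ fun W g hg => ?_
    obtain ⟨κ', Y, f, hf, hY⟩ := hB₁ W
    refine J.superset_covering ?_ hf
    intro V h hh
    rw [Sieve.mem_ofArrows_iff] at hh
    obtain ⟨k, p, rfl⟩ := hh
    obtain ⟨i, a, ha⟩ := hR' g hg
    let b : fr O (Y k) ⟶ (Idx.over B F i).left := ftr (f k) ≫ secOf.symm (a : sc ((lamDiag B F).obj i) W)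
    have hb : b ≫ c.ι.app i = ftr (f k ≫ g) ≫ x ≫ t := by
      apply secOf.injective
      rw [Category.assoc, secOf_ftr_comp, secOf_ftr_comp, secOf_comp, Equiv.apply_symm_apply, op_comp, rs_comp]
      exact congrArg (rs ((fg O).obj c.pt) (f k).op) ha
    have hb0 : b ≫ (Idx.over B F i).hom = 0 := by
      rw [← hκ i, ← Category.assoc, hb, Category.assoc, hy, comp_zero]
    obtain ⟨j, ⟨e⟩⟩ := exists_idx ((isFP_fr (hY k)).cokernel hB₁ hB₂ b (isFP_idx i))
      (cokernel.desc b (Idx.over B F i).hom hb0)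
    let w : i ⟶ j := InducedCategory.homMk
      ((Over.homMk (cokernel.π b) (cokernel.π_desc _ _ _) : Idx.over B F i ⟶ _) ≫ e.hom)
    have hz : ftr (f k ≫ g) ≫ x ≫ t = 0 := by
      rw [← hb, ← c.w w, ← Category.assoc]
      refine (congrArg (· ≫ _) ?_).trans zero_comp
      exact (Category.assoc b (cokernel.π b) e.hom.left).symm.trans
        ((congrArg (· ≫ e.hom.left) (cokernel.condition b)).trans zero_comp)
    show rs _ ((p ≫ f k) ≫ g).op _ = rs _ ((p ≫ f k) ≫ g).op _
    have h0 : ∀ U' : C, secOf (0 : fr O U' ⟶ c.pt) = (0 : sc c.pt U') := fun U' => by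
      rw [show (0 : fr O U' ⟶ c.pt) = (0 : fr O U' ⟶ c.pt) ≫ (0 : c.pt ⟶ c.pt) from comp_zero.symm,
        secOf_comp]
      rfl
    rw [Category.assoc, op_comp, rs_comp, rs_comp, ← secOf_ftr_comp, hz, h0, h0]
    have hr : ∀ {X Y : Cᵒᵖ} (g : X ⟶ Y), rs ((fg O).obj c.pt) g 0 = 0 := fun g =>
      map_zero (((fg O).obj c.pt).map g).hom
    exact (hr _).trans ((congrArg _ (hr _)).trans (hr _)).symm
  have : IsIso κ := isIso_of_mono_of_epi κ
  exact ⟨hc.ofIsoColimit (Cocone.ext (asIso κ) hκ)⟩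

end Groth.Agent.DSites.FPB
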